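import Mathlib.CategoryTheory.Limits.Shapes.Pullback.HasPullback
import Mathlib.CategoryTheory.Limits.Shapes.Equalizers
import Mathlib.CategoryTheory.Limits.Shapes.BinaryProducts
import Mathlib.CategoryTheory.IsConnected
import Mathlib.CategoryTheory.FinCategory.Basic
import Mathlib.Data.Fintype.Sigma
import Mathlib.Order.Preorder.Finite
import Mathlib.Data.Fintype.Powerset

/-!
# Finite limits built one object and one arrow at a time
-/

universe v u

open CategoryTheory CategoryTheory.Limits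

namespace Groth.Agent.ConnLimits

variable {C : Type u} [Category.{v} C] {J : Type} [SmallCategory J] (F : J ⥤ C)

/-- The type of arrows of `J`. -/
abbrev Ar (J : Type) [SmallCategory J] : Type := Σ (a b : J), a ⟶ b

/-- A family compatible with a set of arrows. -/
def Cmp (S : Set J) (E : Set (Ar J)) (W : C) (p : ∀ j, j ∈ S → (W ⟶ F.obj j)) : Prop :=
  ∀ e ∈ E, ∀ (h₁ : e.1 ∈ S) (h₂ : e.2.1 ∈ S), p e.1 h₁ ≫ F.map e.2.2 = p e.2.1 h₂

/-- A limit over part of the diagram exists. -/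
def Rep (S : Set J) (E : Set (Ar J)) : Prop :=
  (∀ e ∈ E, e.1 ∈ S ∧ e.2.1 ∈ S) ∧ ∃ (T : C) (π : ∀ j, j ∈ S → (T ⟶ F.obj j)), Cmp F S E T π ∧
    ∀ (W : C) (p : ∀ j, j ∈ S → (W ⟶ F.obj j)), Cmp F S E W p → ∃! u : W ⟶ T, ∀ j h, u ≫ π j h = p j h

lemma rep_singleton (j₀ : J) : Rep F {j₀} ∅ := by
  refine ⟨fun e he => absurd he (Set.notMem_empty e), F.obj j₀, fun j h => eqToHom (by rw [Set.mem_singleton_iff.1 h]),
    fun e he => absurd he (Set.notMem_empty e), fun W p _ => ⟨p j₀ rfl, fun j h => ?_, fun u hu => ?_⟩⟩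
  · obtain rfl : j = j₀ := h
    simp
  · simpa using hu j₀ rfl

lemma rep_edge [HasEqualizers C] {S : Set J} {E : Set (Ar J)} (h : Rep F S E) (e : Ar J) (h₁ : e.1 ∈ S)
    (h₂ : e.2.1 ∈ S) : Rep F S (insert e E) := by
  obtain ⟨hE, T, π, hπ, huniv⟩ := h
  let a := π e.1 h₁ ≫ F.map e.2.2
  let b := π e.2.1 h₂
  refine ⟨fun x hx => hx.elim (fun h => h ▸ ⟨h₁, h₂⟩) (hE x), equalizer a b,
    fun j hj => equalizer.ι a b ≫ π j hj, ?_, fun W p hp => ?_⟩
  · rintro x (rfl | hx) k₁ k₂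
    · rw [Category.assoc]; exact equalizer.condition a b
    · rw [Category.assoc, hπ x hx k₁ k₂]
  · obtain ⟨u, hu, huu⟩ := huniv W p (fun x hx => hp x (Or.inr hx))
    have heq : u ≫ a = u ≫ b := by
      rw [reassoc_of% hu e.1 h₁, hu e.2.1 h₂]
      exact hp e (Or.inl rfl) h₁ h₂
    refine ⟨equalizer.lift u heq, fun j hj => ?_, fun u' hu' => ?_⟩
    · rw [equalizer.lift_ι_assoc]; exact hu j hj
    · apply equalizer.hom_ext
      rw [equalizer.lift_ι]
      exact huu _ fun j hj => by rw [Category.assoc]; exact hu' j hj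

/-- Adjoining an object `j` to the diagram, given a universal object for the new data. -/
lemma rep_insert {S : Set J} {E : Set (Ar J)} (h : Rep F S E) {j : J} (hj : j ∉ S) (E' : Set (Ar J))
    (hE' : ∀ e ∈ E', e.1 ∈ insert j S ∧ e.2.1 ∈ insert j S) (hEE' : E ⊆ E')
    (hnew : ∀ (T : C) (π : ∀ k, k ∈ S → (T ⟶ F.obj k)), Cmp F S E T π →
      ∃ (T' : C) (t : T' ⟶ T) (q : T' ⟶ F.obj j),
        (∀ (π' : ∀ k, k ∈ insert j S → (T' ⟶ F.obj k)), (∀ k hk, π' k (Set.mem_insert_of_mem _ hk) = t ≫ π k hk) →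
          π' j (Set.mem_insert _ _) = q → Cmp F (insert j S) E' T' π') ∧
        ∀ (W : C) (p : ∀ k, k ∈ insert j S → (W ⟶ F.obj k)) (u : W ⟶ T),
          Cmp F (insert j S) E' W p → (∀ k hk, u ≫ π k hk = p k (Set.mem_insert_of_mem _ hk)) →
          ∃! w : W ⟶ T', w ≫ t = u ∧ w ≫ q = p j (Set.mem_insert _ _)) :
    Rep F (insert j S) E' := by
  classical
  obtain ⟨hE, T, π, hπ, huniv⟩ := h
  obtain ⟨T', t, q, hcmp, hu'⟩ := hnew T π hπ
  let π' : ∀ k, k ∈ insert j S → (T' ⟶ F.obj k) := fun k hk =>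
    if e : k = j then q ≫ eqToHom (by rw [e]) else t ≫ π k (hk.resolve_left e)
  have hS : ∀ k hk, π' k (Set.mem_insert_of_mem _ hk) = t ≫ π k hk := fun k hk => by
    have e : k ≠ j := fun e => hj (e ▸ hk)
    simp only [π', e, dite_false]
  have hjq : π' j (Set.mem_insert _ _) = q := by simp [π']
  refine ⟨hE', T', π', hcmp π' hS hjq, fun W p hp => ?_⟩
  obtain ⟨u, hu, huu⟩ := huniv W (fun k hk => p k (Set.mem_insert_of_mem _ hk))
    (fun e he k₁ k₂ => hp e (hEE' he) _ _)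
  obtain ⟨w, ⟨hw₁, hw₂⟩, hww⟩ := hu' W p u hp hu
  refine ⟨w, fun k hk => ?_, fun w' hw' => ?_⟩
  · rcases hk with rfl | hk
    · rw [hjq]; exact hw₂
    · rw [hS k hk, reassoc_of% hw₁]; exact hu k hk
  · refine hww w' ⟨huu _ fun k hk => ?_, ?_⟩
    · rw [Category.assoc, ← hS k hk]; exact hw' k _
    · rw [← hjq]; exact hw' j _

lemma hasLimit_of_rep [HasEqualizers C] [FinCategory J] {E : Set (Ar J)} (h : Rep F Set.univ E) : HasLimit F := by
  classical
  haveI : Fintype (Ar J) := inferInstance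
  have key : ∀ A : Finset (Ar J), ∃ E : Set (Ar J), Rep F Set.univ E ∧ ↑A ⊆ E := by
    intro A
    induction A using Finset.induction_on with
    | empty => exact ⟨E, h, by simp⟩
    | @insert a A _ ih =>
      obtain ⟨E', h', hA⟩ := ih
      exact ⟨insert a E', rep_edge F h' a trivial trivial, by
        rw [Finset.coe_insert]; exact Set.insert_subset_insert hA⟩
  obtain ⟨E', ⟨-, T, π, hπ, huniv⟩, hA⟩ := key Finset.univ
  let c : Cone F :=
    { pt := T
      π := { app := fun j => π j trivial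
             naturality := fun j j' f => by
              show 𝟙 T ≫ π j' _ = π j _ ≫ F.map f
              rw [Category.id_comp]
              exact (hπ ⟨j, j', f⟩ (hA (Finset.mem_univ _)) trivial trivial).symm } }
  have hs : ∀ s : Cone F, ∃! u : s.pt ⟶ T, ∀ j h, u ≫ π j h = s.π.app j := fun s =>
    huniv s.pt (fun j _ => s.π.app j) (fun e _ _ _ => s.w e.2.2)
  exact ⟨⟨c, { lift := fun s => (hs s).exists.choose
               fac := fun s j => (hs s).exists.choose_spec j trivial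
               uniq := fun s m hm => (hs s).unique (fun j _ => hm j) (hs s).exists.choose_spec }⟩⟩

theorem hasLimit_of_connected [HasEqualizers C] [HasPullbacks C] [FinCategory J] [IsConnected J] :
    HasLimit F := by
  classical
  obtain ⟨j₀⟩ := (inferInstance : Nonempty J)
  obtain ⟨S, ⟨hS₀, E, hSE⟩, hmax⟩ := (Set.toFinite {S : Set J | j₀ ∈ S ∧ ∃ E, Rep F S E}).exists_maximal
    ⟨{j₀}, rfl, ∅, rep_singleton F j₀⟩
  suffices S = Set.univ by subst this; exact hasLimit_of_rep F hSE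
  have hgrow : ∀ j, j ∉ S → (∃ E', Rep F (insert j S) E') → False := fun j hj ⟨E', h'⟩ =>
    hj (hmax ⟨Set.mem_insert_of_mem _ hS₀, E', h'⟩ (Set.subset_insert _ _) (Set.mem_insert _ _))
  refine Set.eq_univ_of_forall fun j => induct_on_objects S hS₀ (fun {j₁ j₂} f => ⟨fun h₁ => ?_, fun h₂ => ?_⟩) j
  · by_contra h₂
    refine hgrow j₂ h₂ ⟨insert ⟨j₁, j₂, f⟩ E, rep_insert F hSE h₂ _ ?_ (Set.subset_insert _ _) fun T π hπ => ?_⟩
    · rintro e (rfl | he)
      · exact ⟨Or.inr h₁, Or.inl rfl⟩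
      · exact ⟨Or.inr (hSE.1 e he).1, Or.inr (hSE.1 e he).2⟩
    · refine ⟨T, 𝟙 T, π j₁ h₁ ≫ F.map f, fun π' hπS hπj => ?_, fun W p u hp hu => ⟨u, ⟨Category.comp_id _, ?_⟩,
        fun w hw => by simpa using hw.1⟩⟩
      · rintro e (rfl | he) k₁ k₂
        · rw [hπS j₁ h₁, Category.id_comp]; exact hπj.symm
        · rw [hπS _ (hSE.1 e he).1, hπS _ (hSE.1 e he).2, Category.assoc, hπ e he]
      · rw [reassoc_of% hu j₁ h₁]
        exact hp ⟨j₁, j₂, f⟩ (Or.inl rfl) _ _
  · by_contra h₁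
    refine hgrow j₁ h₁ ⟨insert ⟨j₁, j₂, f⟩ E, rep_insert F hSE h₁ _ ?_ (Set.subset_insert _ _) fun T π hπ => ?_⟩
    · rintro e (rfl | he)
      · exact ⟨Or.inl rfl, Or.inr h₂⟩
      · exact ⟨Or.inr (hSE.1 e he).1, Or.inr (hSE.1 e he).2⟩
    · refine ⟨pullback (π j₂ h₂) (F.map f), pullback.fst _ _, pullback.snd _ _, fun π' hπS hπj => ?_,
        fun W p u hp hu => ⟨pullback.lift u (p j₁ (Or.inl rfl)) ?_, ⟨pullback.lift_fst _ _ _, pullback.lift_snd _ _ _⟩,
          fun w hw => ?_⟩⟩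
      · rintro e (rfl | he) k₁ k₂
        · rw [hπS j₂ h₂]
          exact (hπj.symm ▸ pullback.condition.symm : π' j₁ _ ≫ F.map f = _)
        · rw [hπS _ (hSE.1 e he).1, hπS _ (hSE.1 e he).2, Category.assoc, hπ e he]
      · rw [hu j₂ h₂]
        exact (hp ⟨j₁, j₂, f⟩ (Or.inl rfl) _ _).symm
      · apply pullback.hom_ext
        · rw [hw.1, pullback.lift_fst]
        · rw [hw.2, pullback.lift_snd]

theorem hasLimit_of_nonempty [HasEqualizers C] [HasBinaryProducts C] [FinCategory J] [Nonempty J] :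
    HasLimit F := by
  classical
  obtain ⟨j₀⟩ := (inferInstance : Nonempty J)
  obtain ⟨S, hS, hmax⟩ := (Set.toFinite {S : Set J | Rep F S ∅}).exists_maximal ⟨{j₀}, rep_singleton F j₀⟩
  suffices S = Set.univ by subst this; exact hasLimit_of_rep F hS
  refine Set.eq_univ_of_forall fun j => by_contra fun hj => hj ?_
  refine hmax ?_ (Set.subset_insert j S) (Set.mem_insert j S)
  refine rep_insert F hS hj ∅ (fun e he => absurd he (Set.notMem_empty e)) subset_rfl fun T π _ => ?_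
  refine ⟨T ⨯ F.obj j, prod.fst, prod.snd, fun π' _ _ e he => absurd he (Set.notMem_empty e),
    fun W p u _ _ => ⟨prod.lift u (p j (Set.mem_insert _ _)), ⟨prod.lift_fst _ _, prod.lift_snd _ _⟩, fun w hw => ?_⟩⟩
  exact Limits.prod.hom_ext (by rw [hw.1, prod.lift_fst]) (by rw [hw.2, prod.lift_snd])

end Groth.Agent.ConnLimits
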